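import Cfsg.Agent.Lib.HeldType.Amalgam.L53.Check0
import Cfsg.Agent.Lib.HeldType.Amalgam.Data

/-! Generated certificate: validity. -/

set_option autoImplicit false
set_option maxRecDepth 20000

namespace Cfsg.Lib.HeldType.Amalgam.L53

open Cfsg.Lib.CosetEnum

/-- The relators of this option. -/
def relators : List (List Nat) := relsL5 ++ [sharedL5.getD 3 []]

theorem cert_valid : cert.Valid relators where
  pos := by decide +kernel
  shifts := by decide +kernel
  defs := defs_0
  steps := (stepsOK_append (m := 1500) (n := 213) steps_0 steps_1)
  closed := closed_0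

end Cfsg.Lib.HeldType.Amalgam.L53
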