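import Cfsg.Agent.Lib.HeldType.Amalgam.L53.Cert

/-! Generated checks. -/

set_option autoImplicit false
set_option maxRecDepth 20000

namespace Cfsg.Lib.HeldType.Amalgam.L53

open Cfsg.Lib.CosetEnum

theorem defs_0 : defsOK tabF 479 0 = true := by decide +kernel

theorem steps_0 : stepsOK relWords subWords tabF tabC 479 1500 0 = true := by decide +kernel

theorem steps_1 : stepsOK relWords subWords tabF tabC 479 213 1500 = true := by decide +kernel

theorem closed_0 : closedOK tabF tabZ tabP 2192 155 8 [0, 1, 2, 3, 4, 5, 6, 7] 155 0 = true := by decide +kernel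

end Cfsg.Lib.HeldType.Amalgam.L53
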